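import Groth.Agent.RelPC13.GenTest.Chart
import Groth.Agent.RelPC13.ThickGen
import Groth.Agent.RelPC13.RpushExact
import Groth.Agent.RelPC13.BC.Square
import Groth.Agent.KFlatLib.Scheme.ProjFormula
import Groth.Agent.KFlatLib.Scheme.DualPerfect
import Groth.Agent.Dual3Lib.RestrictPull
import Groth.Agent.S1008

/-! # Relative finiteness is tested by perfect objects -/

set_option linter.style.haveILetI false
set_option backward.isDefEq.respectTransparency false
set_option backward.isDefEq.respectTransparency.types false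

universe u

open CategoryTheory CategoryTheory.Limits AlgebraicGeometry TopologicalSpace Opposite Pretriangulated
open Groth.Agent.KFlatLib Groth.Agent.PerfD40

attribute [local instance] HasDerivedCategory.standard

noncomputable section

namespace Groth.Agent.RelPC13.GenTest

section Tensor

variable {X : Scheme.{u}}

/-- Tensoring with a K-flat complex preserves exact triangles. -/
theorem exists_triangle_ltensor (M : CochainComplex X.Modules ℤ) [DCoh.HasLTensorCx M]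
    (hM : DCoh.IsKFlat M) (T : Triangle (DCoh.D X)) (hT : T ∈ distTriang (DCoh.D X)) :
    ∃ T' ∈ distTriang (DCoh.D X), Nonempty (T'.obj₁ ≅ (DCoh.LTensorCx M).obj T.obj₁) ∧
      Nonempty (T'.obj₂ ≅ (DCoh.LTensorCx M).obj T.obj₂) ∧
      Nonempty (T'.obj₃ ≅ (DCoh.LTensorCx M).obj T.obj₃) := by
  obtain ⟨F, G, φ, ⟨e⟩⟩ := (DerivedCategory.mem_distTriang_iff T.invRotate).1 (inv_rot_of_distTriang T hT)
  let S := coneSeq φ
  have hS : (S.map (DCoh.tensorCx.obj M)).ShortExact :=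
    splitting_tensor (R := M) S fun n => ⟨coneSeqSplitting φ n⟩
  let L : ∀ N, (DCoh.LTensorCx M).obj (DerivedCategory.Q.obj N) ≅
      DerivedCategory.Q.obj ((DCoh.tensorCx.obj M).obj N) := fun N =>
    @asIso _ _ _ _ (((DCoh.tensorCxQ M).totalLeftDerivedCounit DerivedCategory.Q (qisX X)).app N)
        (isIso_LTensorCx_counit_of_isKFlat_right M hM N) ≪≫
      DerivedCategory.Q.mapIso ((symmIso (tensorBiFlipIso X) M).app N)
  let e₁ : T.obj₁ ≅ DerivedCategory.Q.obj S.X₁ := Triangle.π₂.mapIso e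
  let e₂ : T.obj₂ ≅ DerivedCategory.Q.obj S.X₂ := Triangle.π₃.mapIso e
  let e₃ : T.obj₃ ≅ DerivedCategory.Q.obj S.X₃ :=
    ((shiftEquiv (DCoh.D X) (1 : ℤ)).counitIso.app T.obj₃).symm ≪≫
      (shiftFunctor (DCoh.D X) (1 : ℤ)).mapIso (Triangle.π₁.mapIso e) ≪≫
      ((DerivedCategory.Q.commShiftIso (1 : ℤ)).app F).symm
  exact ⟨DerivedCategory.triangleOfSES hS, DerivedCategory.triangleOfSES_distinguished hS,
    ⟨((DCoh.LTensorCx M).mapIso e₁ ≪≫ L _).symm⟩, ⟨((DCoh.LTensorCx M).mapIso e₂ ≪≫ L _).symm⟩,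
    ⟨((DCoh.LTensorCx M).mapIso e₃ ≪≫ L _).symm⟩⟩

/-- `O ⊗^L M = M`. -/
theorem nonempty_ltensor_unit (M : CochainComplex X.Modules ℤ) [DCoh.HasLTensorCx M] :
    Nonempty ((DCoh.LTensorCx M).obj (DCoh.inD X (Coh.structureModule X)) ≅ DCoh.toD X M) := by
  let O := (HomologicalComplex.single X.Modules (ComplexShape.up ℤ) 0).obj (Coh.structureModule X)
  obtain ⟨e⟩ := nonempty_tensorUnitIso M
  exact ⟨(DCoh.LTensorCx M).mapIso ((DerivedCategory.singleFunctorIsoCompQ X.Modules 0).app _) ≪≫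
    ltensorCxIso M (R := O) (isKFlat_of_isStrictlyLE O 0 (isFlat_single 0 isFlat_structureModule)) ≪≫
    DerivedCategory.Q.mapIso ((symmIso (tensorBiFlipIso X) M).app O ≪≫ e)⟩

end Tensor

variable {X S : Scheme.{u}} (π : X ⟶ S) [IsAffine S] [IsSeparated π] [QuasiCompact π]
  [DCoh.HasRpush π]

/-- A property of `Rπ_*(E ⊗^L K)` for all perfect `E` passes to every chart of `K`. -/
theorem prop_immD (K : CochainComplex X.Modules ℤ) [DCoh.HasLTensorCx K]
    (hK : DCoh.IsQCohD (DCoh.toD X K)) {n : ℕ}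
    (PS : DCoh.D S → Prop)
    (PT : DCoh.D (Spec (CommRingCat.of (MvPolynomial (Fin n) Γ(S, ⊤)))) → Prop)
    (hpull : ∀ [DCoh.HasLpull (affSp S n)] (G : DCoh.D S), PS G → PT ((DCoh.Lpull (affSp S n)).obj G))
    (hT : ThickClass PT)
    (h : ∀ E : DCoh.D X, DCoh.IsPerfect E → PS ((DCoh.Rpush π).obj ((DCoh.LTensorCx K).obj E)))
    {U : X.Opens} (hU : IsAffineOpen U) {hle : U ≤ π ⁻¹ᵁ ⊤}
    {φ : MvPolynomial (Fin n) Γ(S, ⊤) →+* Γ(X, U)} (hφ : DerSch.IsChart π U ⊤ hle φ)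
    [IsClEmb (imm U φ)] : PT ((immD U φ).obj (DCoh.toD X K)) := by
  let g := affSp S n
  let Z := pullback π g
  let p := pullback.fst π g
  let q := pullback.snd π g
  haveI := hasLpull g
  haveI := hasLpull p
  haveI : Flat p := MorphismProperty.pullback_fst π g inferInstance
  haveI : IsAffineHom p := MorphismProperty.pullback_fst π g inferInstance
  haveI : IsSeparated q := MorphismProperty.pullback_snd π g inferInstance
  haveI : QuasiCompact q := MorphismProperty.pullback_snd π g inferInstance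
  haveI : CompactSpace X := QuasiCompact.compactSpace_of_compactSpace π
  haveI : CompactSpace Z := QuasiCompact.compactSpace_of_compactSpace q
  haveI : QuasiSeparatedSpace X := quasiSeparatedSpace_of_quasiSeparated π
  haveI : QuasiSeparatedSpace Z := quasiSeparatedSpace_of_quasiSeparated q
  haveI := hasRpush_scheme g
  haveI := hasRpush_scheme p
  haveI := hasRpush_scheme q
  -- K-flat representatives
  let P := (kRes X).obj K
  have hP : DCoh.IsKFlat P := isKFlat_kRes _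
  haveI := isIso_Q_map _ ((flatCover X).quasiIso_ψ K)
  let eP : DerivedCategory.Q.obj P ≅ DerivedCategory.Q.obj K :=
    asIso (DerivedCategory.Q.map ((flatCover X).ψ.app K))
  let M := (pullCx p).obj P
  have hM : DCoh.IsKFlat M := isKFlat_pullback p hP
  haveI := hasLTensorCx P
  haveI := hasLTensorCx M
  obtain ⟨cK⟩ := nonempty_LTensorCx_congr_D eP
  have hMq : DCoh.IsQCohD (DCoh.toD Z M) :=
    isQCohD_of_iso (lpullIso p hP) (isQCohD_lpull p (isQCohD_of_iso eP.symm hK))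
  -- the property for pullbacks
  obtain ⟨adjg⟩ := nonempty_lpull_rpush_adj g
  obtain ⟨adjp⟩ := nonempty_lpull_rpush_adj p
  obtain ⟨e, he⟩ := BC.exists_baseChange_iso (IsPullback.of_hasPullback π g) adjg adjp
  have hLp : ∀ E : DCoh.D X, DCoh.IsPerfect E →
      PT ((DCoh.Rpush q).obj ((DCoh.LTensorCx M).obj ((DCoh.Lpull p).obj E))) := fun E hE => by
    obtain ⟨e₁⟩ := nonempty_lpull_ltensor p P hP E
    haveI := he ((DCoh.LTensorCx K).obj E) (isQCohD_ltensor K hK (isQCohD_of_isPerfect hE))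
    exact hT.of_iso (asIso (DCoh.baseChangeApp adjg adjp e ((DCoh.LTensorCx K).obj E)) ≪≫
      (DCoh.Rpush q).mapIso ((DCoh.Lpull p).mapIso (cK.app E).symm ≪≫ e₁)) (hpull _ (h E hE))
  -- the class of test objects
  let Φ : DCoh.D Z → Prop := fun E =>
    ∀ m : ℤ, PT ((DCoh.Rpush q).obj ((DCoh.LTensorCx M).obj (E⟦m⟧)))
  have hΦ : ThickClass Φ :=
    { ext₂ := fun T hT' h₁ h₃ m => by
        obtain ⟨T', hT'', ⟨a₁⟩, ⟨a₂⟩, ⟨a₃⟩⟩ := exists_triangle_ltensor M hM
          ((Triangle.shiftFunctor (DCoh.D Z) m).obj T) (Triangle.shift_distinguished T hT' m)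
        obtain ⟨c, hc⟩ := exists_rpush_triangle q T' hT''
        exact hT.of_iso ((DCoh.Rpush q).mapIso a₂) (hT.ext₂ _ hc
          (hT.of_iso ((DCoh.Rpush q).mapIso a₁.symm) (h₁ m))
          (hT.of_iso ((DCoh.Rpush q).mapIso a₃.symm) (h₃ m)))
      retract := fun r hL m =>
        hT.retract (r.map (shiftFunctor (DCoh.D Z) m ⋙ DCoh.LTensorCx M ⋙ DCoh.Rpush q)) (hL m) }
  -- a generator
  haveI := preservesHomology_pullback p
  haveI : PreservesFiniteLimits (Scheme.Modules.pullback p) :=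
    (Scheme.Modules.pullback p).preservesFiniteLimits_of_preservesHomology
  obtain ⟨N⟩ := BC.nonempty_lpull_iso_pullD p
  obtain ⟨P₀, hP₀, hgen₀⟩ := S1008.result X
  let G := (DCoh.Lpull p).obj P₀
  have hG : DCoh.IsPerfect G := isPerfect_lpull p hP₀
  let sh : ∀ m : ℤ, G⟦m⟧ ≅ (DCoh.Lpull p).obj (P₀⟦m⟧) := fun m =>
    (shiftFunctor (DCoh.D Z) m).mapIso (N.app P₀) ≪≫
      (((BC.pullD p).commShiftIso m).app P₀).symm ≪≫ (N.app _).symm
  have hGΦ : ∀ k : ℤ, Φ (G⟦k⟧) := fun k m =>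
    hT.of_iso ((DCoh.Rpush q).mapIso ((DCoh.LTensorCx M).mapIso
      ((shiftFunctorAdd (DCoh.D Z) k m).app G)))
      (hT.of_iso ((DCoh.Rpush q).mapIso ((DCoh.LTensorCx M).mapIso (sh (k + m)).symm))
        (hLp _ (isPerfect_shift hP₀ _)))
  have hgen : ∀ L : DCoh.D Z, DCoh.IsQCohD L → (∀ (k : ℤ) (ψ : G⟦k⟧ ⟶ L), ψ = 0) → IsZero L := by
    intro L hL hz
    refine isZero_of_rpush_isZero p hL ((hgen₀ _ (isQCohD_rpush p hL)).2 fun k ψ => ?_)
    haveI : (DCoh.Rpush p).Additive :=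
      (exists_rightDerived_triangle (Scheme.Modules.pushforward p) _ (contractible_distinguished G)).1
    have h0 := hz k ((sh k).hom ≫ (adjp.homEquiv _ _).symm ψ)
    rw [← comp_zero (f := (sh k).hom), cancel_epi] at h0
    rw [← (adjp.homEquiv _ _).apply_symm_apply ψ, h0, Adjunction.homEquiv_unit, Functor.map_zero, comp_zero]
  -- the graph
  obtain ⟨γ, hγ₁, hγ₂, hfst, hsnd, hperf⟩ := exists_test hU hφ
  haveI := hγ₁
  haveI := hγ₂
  haveI := hasRpush_scheme γ
  haveI := hasLpull γ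
  have hmain := hT.of_iso ((DCoh.Rpush q).mapIso ((DCoh.LTensorCx M).mapIso
    ((shiftFunctorZero (DCoh.D Z) ℤ).app _)))
    (perfect_mem_of_generator G hG hGΦ hΦ hgen _ hperf 0)
  let O := DCoh.inD _ (Coh.structureModule (U : Scheme.{u}))
  obtain ⟨eγ⟩ := nonempty_rpush_pD_iso γ O
  let M' := (pullCx γ).obj M
  haveI := hasLTensorCx M'
  obtain ⟨pr⟩ := nonempty_projection_DQCoh γ O
    (isQCohD_of_iso ((DerivedCategory.singleFunctorIsoCompQ _ 0).app _).symm
      (isQCohD_of_isPerfect ((isPerfect_iff _).2 locSP_structure))) M hMq M' ⟨(lpullIso γ hM).symm⟩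
  obtain ⟨eu⟩ := nonempty_ltensor_unit M'
  -- `γ^* p^* K` is the restriction of `K`
  haveI := hasLpull (γ ≫ p)
  haveI := hasLpull U.ι
  obtain ⟨cc⟩ := nonempty_lpull_comp γ p
  obtain ⟨cι⟩ := FMX.nonempty_lpull_congr (show γ ≫ p = U.ι from hfst)
  obtain ⟨cr⟩ := Dual3Lib.nonempty_lpull_iso_restrictD U.ι
  let eM' : DCoh.toD (U : Scheme.{u}) M' ≅ (rho U.ι).obj (DCoh.toD X K) :=
    (lpullIso γ hM).symm ≪≫ (DCoh.Lpull γ).mapIso ((lpullIso p hP).symm ≪≫ (DCoh.Lpull p).mapIso eP) ≪≫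
      (cc ≪≫ cι ≪≫ cr).app _
  have hcomp : ∀ (c : (U : Scheme.{u}) ⟶ _) (_ : γ ≫ q = c) [IsClEmb c] (E : DCoh.D (U : Scheme.{u})),
      Nonempty ((DCoh.Rpush q).obj ((DCoh.Rpush γ).obj E) ≅ (pD c).obj E) := by
    rintro c rfl _ E
    haveI := hasRpush_scheme (γ ≫ q)
    obtain ⟨e₁⟩ := nonempty_rpush_comp γ q
    obtain ⟨e₂⟩ := nonempty_rpush_pD_iso (γ ≫ q) E
    exact ⟨e₁.app E ≪≫ e₂⟩
  obtain ⟨ec⟩ := hcomp (imm U φ) hsnd ((rho U.ι).obj (DCoh.toD X K))
  exact hT.of_iso ((DCoh.Rpush q).mapIso ((DCoh.LTensorCx M).mapIso eγ.symm ≪≫ pr ≪≫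
    (DCoh.Rpush γ).mapIso (eu ≪≫ eM')) ≪≫ ec) hmain

end Groth.Agent.RelPC13.GenTest
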