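import Groth.Agent.RelPC13.GenTest.Finish
import Groth.Agent.RelPC13.Generalize
import Groth.Agent.RelPC13.StalkPush
import Groth.Agent.RelPC13.ThickAmp

/-! # Tor amplitude from perfectness on affine space -/

set_option linter.style.haveILetI false
set_option backward.isDefEq.respectTransparency false
set_option backward.isDefEq.respectTransparency.types false

universe u

open CategoryTheory CategoryTheory.Limits AlgebraicGeometry TopologicalSpace Opposite
open Groth.Agent.KFlatLib Groth.Agent.H9Misc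

attribute [local instance] HasDerivedCategory.standard

noncomputable section

namespace Groth.Agent.RelPC13.GenTest

theorem flat_restrictScalars {A B : Type u} [CommRing A] [CommRing B] (φ : A →+* B) (hφ : φ.Flat)
    (M : ModuleCat.{u} B) (hM : Module.Flat B M) :
    Module.Flat A ((ModuleCat.restrictScalars φ).obj M) := by
  letI := φ.toAlgebra
  haveI : Module.Flat A B := hφ
  letI : Module A M := Module.compHom _ φ
  haveI : IsScalarTower A B M := .of_compHom A B M
  exact Module.Flat.trans A B M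

open DRingLTensor DRingTor DRingTorLTensor in
/-- Tor amplitude along a flat map of rings. -/
theorem hasTorAmplitudeIn_restrict_flat {A B : Type u} [CommRing A] [CommRing B] (φ : A →+* B)
    (hφ : φ.Flat) {N : DRing.Cx B} {a b : ℤ} (h : DRing.HasTorAmplitudeIn B a b (DRing.toD N)) :
    DRing.HasTorAmplitudeIn A a b (DRing.toD ((DRing.restrictCx φ).obj N)) := by
  obtain ⟨E, hz, hfl, ⟨e⟩⟩ := h
  refine ⟨(DRing.restrictCx φ).obj E, fun i hi => (ModuleCat.restrictScalars φ).map_isZero (hz i hi),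
    fun i => ?_, ⟨((ModuleCat.restrictScalars φ).mapDerivedCategoryFactors.app E).symm ≪≫
      (ModuleCat.restrictScalars φ).mapDerivedCategory.mapIso e ≪≫
      (ModuleCat.restrictScalars φ).mapDerivedCategoryFactors.app N⟩⟩
  exact flat_restrictScalars φ hφ (E.X i) (hfl i)

variable {X S : Scheme.{u}} {π : X ⟶ S} {T : Scheme.{u}} {U : X.Opens}

/-- Perfect objects have tor amplitude near every point, stalkwise. -/
theorem exists_amp_stalks {G : CochainComplex T.Modules ℤ} (h : LocSP (DerivedCategory.Q.obj G))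
    (t₀ : T) : ∃ (O : T.Opens) (a b : ℤ), t₀ ∈ O ∧ ∀ t ∈ O,
      DRing.HasTorAmplitudeIn (T.presheaf.stalk t) a b
        (DRing.toD (((DerSch.stalkFunctor T t).mapHomologicalComplex (ComplexShape.up ℤ)).obj G)) := by
  obtain ⟨W, j, _, hx, P, hP, ⟨e⟩⟩ := h t₀
  obtain ⟨a, b, hab⟩ := hP.1
  refine ⟨j.opensRange, a, b, hx, ?_⟩
  rintro _ ⟨w, rfl⟩
  let φ := (j.stalkMap w).hom
  let c := ComplexShape.up ℤ
  let Φ := DerSch.stalkFunctor W w ⋙ ModuleCat.restrictScalars φ
  refine ⟨(Φ.mapHomologicalComplex c).obj P, fun i hi => Φ.map_isZero (hab i hi), fun i => ?_,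
    ⟨(Φ.mapDerivedCategoryFactors.app P).symm ≪≫ Φ.mapDerivedCategory.mapIso (e ≪≫ (rhoQ j).app G) ≪≫
      Φ.mapDerivedCategoryFactors.app _ ≪≫
      DerivedCategory.Q.mapIso ((NatIso.mapHomologicalComplex (stalkRestrictModIso' j w) c).app G)⟩⟩
  letI := φ.toAlgebra
  haveI : Module.Flat (T.presheaf.stalk (j.base w)) (W.presheaf.stalk w) :=
    RingHom.Flat.of_bijective (ConcreteCategory.bijective_of_isIso (j.stalkMap w))
  let M := (DerSch.stalkFunctor W w).obj (P.X i)
  haveI : Module.Flat (W.presheaf.stalk w) (M : Type u) := isFlat_of_isFinLocFree (hP.2 i) w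
  letI : Module (T.presheaf.stalk (j.base w)) (M : Type u) := Module.compHom _ φ
  haveI : IsScalarTower (T.presheaf.stalk (j.base w)) (W.presheaf.stalk w) (M : Type u) := .of_compHom _ _ _
  exact Module.Flat.trans (T.presheaf.stalk (j.base w)) (W.presheaf.stalk w) (M : Type u)

/-- The stalks of `F` are those of its pushforward to `T`. -/
def stalkOverIso (c : (U : Scheme.{u}) ⟶ T) [IsClEmb c] (g : T ⟶ S) (w : U.ι ≫ π = c ≫ g)
    (u₀ : (U : Scheme.{u})) :
    ((Scheme.Modules.restrictFunctor U.ι ⋙ Scheme.Modules.pushforward c) ⋙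
        DerSch.stalkFunctor T (c.base u₀)) ⋙ ModuleCat.restrictScalars (sqMap w u₀).hom ≅
      DerSch.stalkOver π (U.ι.base u₀) :=
  let ρ := (sqMap w u₀).hom
  let γ := (c.stalkMap u₀).hom.comp ρ
  have hγ : γ = (U.ι.stalkMap u₀).hom.comp (π.stalkMap (U.ι.base u₀)).hom := by
    rw [← CommRingCat.hom_comp, sqMap_comp w u₀]
    rfl
  Functor.isoWhiskerRight (Functor.associator _ _ _ ≪≫ Functor.isoWhiskerLeft _ (stalkPushModIso c u₀)) _ ≪≫
    Functor.associator _ _ _ ≪≫ Functor.isoWhiskerLeft _ (Functor.associator _ _ _ ≪≫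
      Functor.isoWhiskerLeft _ ((resComp ρ (c.stalkMap u₀).hom γ rfl).symm ≪≫
        resComp (π.stalkMap (U.ι.base u₀)).hom (U.ι.stalkMap u₀).hom γ hγ)) ≪≫
    (Functor.isoWhiskerRight (stalkRestrictModIso' U.ι u₀)
      (ModuleCat.restrictScalars (π.stalkMap (U.ι.base u₀)).hom) :)

/-- Finite tor amplitude relative to the base, from perfectness in an affine space. -/
theorem exists_amp_of_locSP (c : (U : Scheme.{u}) ⟶ T) [IsClEmb c] (g : T ⟶ S) [Flat g]
    (w : U.ι ≫ π = c ≫ g) (F : CochainComplex X.Modules ℤ)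
    (h : LocSP ((pD c).obj ((rho U.ι).obj (DCoh.toD X F)))) (x : X) (hx : x ∈ U) :
    ∃ (V : X.Opens) (a b : ℤ), x ∈ V ∧ ∀ x' ∈ V, DerSch.HasTorAmplitudeAt π a b F x' := by
  let F₁ := ((Scheme.Modules.restrictFunctor U.ι).mapHomologicalComplex (ComplexShape.up ℤ)).obj F
  let G := ((Scheme.Modules.pushforward c).mapHomologicalComplex (ComplexShape.up ℤ)).obj F₁
  obtain ⟨O, a, b, hO, hamp⟩ := exists_amp_stalks (G := G)
    (LocSP.of_iso ((pD c).mapIso ((rhoQ U.ι).app F) ≪≫ pDQ c F₁) h) (c.base ⟨x, hx⟩)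
  refine ⟨U.ι ''ᵁ (c ⁻¹ᵁ O), a, b, ⟨⟨x, hx⟩, hO, rfl⟩, ?_⟩
  rintro _ ⟨u₀, hu₀, rfl⟩
  have hflat : (sqMap w u₀).hom.Flat := by
    rw [sqMap, CommRingCat.hom_comp]
    exact (RingHom.Flat.of_bijective (ConcreteCategory.bijective_of_isIso
      (S.presheaf.stalkCongr (.of_eq (sq_apply w u₀).symm)).hom)).comp (Flat.stalkMap g (c.base u₀))
  have h1 := hasTorAmplitudeIn_restrict_flat _ hflat (hamp (c.base u₀) hu₀)
  exact DRingTorFaithful.of_iso (DerivedCategory.Q.mapIso
    ((NatIso.mapHomologicalComplex (stalkOverIso c g w u₀) (ComplexShape.up ℤ)).app F)) h1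

end Groth.Agent.RelPC13.GenTest
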