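import Groth.Agent.RelPC13.GenTest.PerfectPush
import Mathlib.AlgebraicGeometry.Pullbacks
import Mathlib.RingTheory.TensorProduct.MvPolynomial

/-! # The graph of a chart in the product with the affine space -/

set_option linter.style.haveILetI false
set_option backward.isDefEq.respectTransparency false
set_option backward.isDefEq.respectTransparency.types false

universe u

open CategoryTheory CategoryTheory.Limits AlgebraicGeometry TopologicalSpace Opposite
open Groth.Agent.KFlatLib

attribute [local instance] HasDerivedCategory.standard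

noncomputable section

namespace Groth.Agent.RelPC13.GenTest

variable {X S : Scheme.{u}} (π : X ⟶ S) [IsAffine S]

/-- Affine space over an affine scheme. -/
def affSp (S : Scheme.{u}) [IsAffine S] (n : ℕ) :
    Spec (CommRingCat.of (MvPolynomial (Fin n) Γ(S, ⊤))) ⟶ S :=
  Spec.map (CommRingCat.ofHom MvPolynomial.C) ≫ (isAffineOpen_top S).fromSpec

instance flat_affSp (n : ℕ) : Flat (affSp S n) := by
  haveI : Flat (Spec.map (CommRingCat.ofHom (MvPolynomial.C : Γ(S, ⊤) →+* MvPolynomial (Fin n) Γ(S, ⊤)))) :=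
    (HasRingHomProperty.Spec_iff (P := @Flat)).2 (by
      show RingHom.Flat (algebraMap Γ(S, ⊤) (MvPolynomial (Fin n) Γ(S, ⊤)))
      exact RingHom.flat_algebraMap_iff.2 inferInstance)
  unfold affSp
  infer_instance

instance isAffineHom_affSp (n : ℕ) : IsAffineHom (affSp S n) := by
  unfold affSp
  infer_instance

variable {π}

/-- The data attached to a chart: the graph and its perfect structure sheaf. -/
theorem exists_test [IsSeparated π] {U : X.Opens} (hU : IsAffineOpen U) {h : U ≤ π ⁻¹ᵁ ⊤} {n : ℕ}
    {φ : MvPolynomial (Fin n) Γ(S, ⊤) →+* Γ(X, U)} (hφ : DerSch.IsChart π U ⊤ h φ) :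
    ∃ (γ : (U : Scheme.{u}) ⟶ pullback π (affSp S n)) (_ : IsClEmb γ) (_ : IsClosedImmersion γ),
      γ ≫ pullback.fst π (affSp S n) = U.ι ∧ γ ≫ pullback.snd π (affSp S n) = imm U φ ∧
      DCoh.IsPerfect ((pD γ).obj (DCoh.inD _ (Coh.structureModule (U : Scheme.{u})))) := by
  let g := affSp S n
  let hT := isAffineOpen_top S
  let f : Γ(S, ⊤) →+* Γ(X, U) := (π.appLE ⊤ U h).hom
  let B := Γ(X, U)
  let mf : MvPolynomial (Fin n) Γ(S, ⊤) →+* MvPolynomial (Fin n) B := MvPolynomial.map f
  let a : Fin n → B := fun i => φ (MvPolynomial.X i)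
  have hev : (MvPolynomial.eval a).comp mf = φ := by
    refine MvPolynomial.ringHom_ext (fun r => ?_) fun i => ?_
    · simp only [RingHom.comp_apply, mf, MvPolynomial.map_C, MvPolynomial.eval_C]
      exact (RingHom.congr_fun hφ.2 r).symm
    · simp only [RingHom.comp_apply, mf, MvPolynomial.map_X, MvPolynomial.eval_X, a]; rfl
  let CB : Γ(X, U) →+* MvPolynomial (Fin n) B := MvPolynomial.C
  have hπ : Spec.map (CommRingCat.ofHom f) ≫ hT.fromSpec = hU.fromSpec ≫ π :=
    IsAffineOpen.SpecMap_appLE_fromSpec π hT hU h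
  have hC : CB.comp f = mf.comp MvPolynomial.C := RingHom.ext fun r => (MvPolynomial.map_C f r).symm
  have hw : (Spec.map (CommRingCat.ofHom CB) ≫ hU.fromSpec) ≫ π =
      Spec.map (CommRingCat.ofHom mf) ≫ g := by
    rw [Category.assoc, ← hπ]
    simp only [g, affSp, ← Category.assoc, ← Spec.map_comp, ← CommRingCat.ofHom_comp, hC]
  let w : Spec (CommRingCat.of (MvPolynomial (Fin n) B)) ⟶ pullback π g :=
    pullback.lift (Spec.map (CommRingCat.ofHom CB) ≫ hU.fromSpec) (Spec.map (CommRingCat.ofHom mf)) hw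
  -- the base change square defining `w`
  letI : Algebra Γ(S, ⊤) Γ(X, U) := f.toAlgebra
  have hpo : IsPushout (CommRingCat.ofHom f) (CommRingCat.ofHom (MvPolynomial.C : Γ(S, ⊤) →+* _))
      (CommRingCat.ofHom CB) (CommRingCat.ofHom mf) := by
    letI : Algebra (MvPolynomial (Fin n) Γ(S, ⊤)) (MvPolynomial (Fin n) B) :=
      MvPolynomial.algebraMvPolynomial
    haveI : Algebra.IsPushout Γ(S, ⊤) B (MvPolynomial (Fin n) Γ(S, ⊤)) (MvPolynomial (Fin n) B) :=
      inferInstance
    exact CommRingCat.isPushout_iff_isPushout.2 ‹_›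
  haveI : IsIso hT.fromSpec := by rw [IsAffineOpen.fromSpec_top]; infer_instance
  have houter : IsPullback (Spec.map (CommRingCat.ofHom mf)) (Spec.map (CommRingCat.ofHom CB)) g
      (hU.fromSpec ≫ π) := by
    rw [← hπ]
    exact (isPullback_SpecMap_of_isPushout _ _ _ _ hpo).flip.of_iso
      (Iso.refl _) (Iso.refl _) (Iso.refl _) (asIso hT.fromSpec)
      ((Category.comp_id _).trans (Category.id_comp _).symm)
      ((Category.comp_id _).trans (Category.id_comp _).symm)
      (Category.id_comp _).symm (Category.id_comp _).symm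
  have hleft : IsPullback w (Spec.map (CommRingCat.ofHom CB)) (pullback.fst π g) hU.fromSpec :=
    IsPullback.of_right (by rw [pullback.lift_snd]; exact houter) (pullback.lift_fst _ _ _)
      (IsPullback.of_hasPullback π g).flip
  haveI : IsOpenImmersion w := MorphismProperty.of_isPullback hleft.flip inferInstance
  let c' := imm U (MvPolynomial.eval a)
  haveI : IsClEmb c' := isClEmb_imm hU fun b => ⟨MvPolynomial.C b, MvPolynomial.eval_C b⟩
  let γ := c' ≫ w
  have hfst : γ ≫ pullback.fst π g = U.ι := by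
    have hid : (MvPolynomial.eval a).comp CB = RingHom.id _ := RingHom.ext fun b => MvPolynomial.eval_C b
    simp only [γ, w, Category.assoc, pullback.lift_fst]
    rw [← Category.assoc, imm_comp, hid]
    simp only [imm, CommRingCat.ofHom_id, Spec.map_id, Category.assoc, Category.id_comp]
    exact hU.toSpecΓ_fromSpec
  have hsnd : γ ≫ pullback.snd π g = imm U φ := by
    simp only [γ, w, Category.assoc, pullback.lift_snd]
    rw [imm_comp, hev]
  haveI : IsClosedImmersion (imm U φ) := isClosedImmersion_imm hU hφ.1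
  haveI : IsClosedImmersion (γ ≫ pullback.snd π g) := by rw [hsnd]; infer_instance
  haveI : IsClosedImmersion γ := IsClosedImmersion.of_comp γ (pullback.snd π g)
  refine ⟨γ, inferInstance, inferInstance, hfst, hsnd, isPerfect_push_of_open γ w c' rfl _ ?_⟩
  -- on the affine space over `U`
  let i := Spec.map (CommRingCat.ofHom (MvPolynomial.eval a))
  haveI : IsClosedImmersion i :=
    IsClosedImmersion.spec_of_surjective _ fun b => ⟨MvPolynomial.C b, MvPolynomial.eval_C b⟩
  haveI : IsIso U.toSpecΓ := inferInstanceAs (IsIso hU.isoSpec.hom)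
  refine (isPerfect_iff _).2 (LocSP.of_iso ?_ ((isPerfect_iff _).1 (isPerfect_push_eval a)))
  let e : (pD U.toSpecΓ).obj (DCoh.inD _ (Coh.structureModule (U : Scheme.{u}))) ≅
      DCoh.inD _ (Coh.structureModule (Spec Γ(X, U))) :=
    pDSingle U.toSpecΓ _ ≪≫ (DerivedCategory.singleFunctor _ 0).mapIso
      ((Scheme.Modules.pushforward U.toSpecΓ).mapIso (restrictStructureIso U.toSpecΓ).symm ≪≫
        pushRestrictSelf U.toSpecΓ _)
  exact ((pD i).mapIso e).symm ≪≫ pDComp U.toSpecΓ i c' rfl _

end Groth.Agent.RelPC13.GenTest
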