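import Groth.Agent.RelPC13.GenTest.Main
import Groth.Agent.RelPC13.Local

/-! # Test by perfect objects: conclusions -/

set_option linter.style.haveILetI false
set_option backward.isDefEq.respectTransparency false
set_option backward.isDefEq.respectTransparency.types false

universe u

open CategoryTheory CategoryTheory.Limits AlgebraicGeometry TopologicalSpace Opposite Pretriangulated
open Groth.Agent.KFlatLib Groth.Agent.PerfD40

attribute [local instance] HasDerivedCategory.standard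

noncomputable section

namespace Groth.Agent.RelPC13.GenTest

variable {Y : Scheme.{u}}

/-- A retract is a summand. -/
theorem exists_iso_biprod_of_retract {K L : DCoh.D Y} (r : Retract K L) :
    ∃ (C : DCoh.D Y) (_ : HasBinaryBiproduct K C), Nonempty (L ≅ K ⊞ C) := by
  obtain ⟨C, g, δ, hT⟩ := distinguished_cocone_triangle r.i
  haveI : Mono r.i := SplitMono.mono ⟨r.r, r.retract⟩
  obtain ⟨e, -, -⟩ := exists_iso_binaryBiproduct_of_distTriang _ hT
    ((Triangle.mor₃_eq_zero_iff_mono₁ _ hT).2 (show Mono r.i from inferInstance))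
  exact ⟨C, inferInstance, ⟨e⟩⟩

theorem thickClass_locPC : ThickClass fun G : DCoh.D Y => ∀ m : ℤ, LocPC m G where
  ext₂ T hT h₁ h₃ m := (locPC_two_of_three m T hT).2.1 (h₁ m) (h₃ m)
  retract r h m := by
    obtain ⟨C, _, ⟨e⟩⟩ := exists_iso_biprod_of_retract r
    exact (locPC_summand m _ C ((h m).of_iso e)).1

theorem thickClass_locSP : ThickClass fun G : DCoh.D Y => LocSP G where
  ext₂ T hT h₁ h₃ := (locSP_two_of_three T hT).2.1 h₁ h₃
  retract r h := by
    obtain ⟨C, _, ⟨e⟩⟩ := exists_iso_biprod_of_retract r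
    exact (locSP_summand _ C (h.of_iso e)).1

variable {X S : Scheme.{u}} (π : X ⟶ S) [IsAffine S] [IsSeparated π] [QuasiCompact π]
  [DCoh.HasRpush π] (K : CochainComplex X.Modules ℤ) [DCoh.HasLTensorCx K]

/-- Relative pseudo-coherence is detected by perfect objects. -/
theorem isPseudoCoherentRelAll_of_test [LocallyOfFiniteType π] (hK : DCoh.IsQCohD (DCoh.toD X K))
    (h : ∀ E : DCoh.D X, DCoh.IsPerfect E →
      ∀ m : ℤ, DCoh.IsPseudoCoherentD m ((DCoh.Rpush π).obj ((DCoh.LTensorCx K).obj E))) :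
    DerSch.IsPseudoCoherentRelAll π (DCoh.toD X K) := by
  intro m
  refine ⟨inferInstance, {⟨⊤, isAffineOpen_top S⟩}, by simp, ?_⟩
  rintro V rfl
  refine ⟨Set.univ, ?_, ?_⟩
  · simp only [Set.mem_univ, iSup_true, Scheme.Hom.preimage_top]
    exact iSup_affineOpens_eq_top X
  · rintro U - hle
    obtain ⟨n, φ, hφ⟩ := exists_chart hle (π.finiteType_appLE (isAffineOpen_top S) U.2 hle)
    haveI := isClEmb_imm U.2 hφ.1
    refine ⟨n, φ, hφ, (chartPC_iff φ inferInstance _).2 ((spc_iff_locPC φ).2 ?_)⟩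
    exact prop_immD π K hK (fun G => ∀ m : ℤ, DCoh.IsPseudoCoherentD m G)
      (fun G => ∀ m : ℤ, LocPC m G)
      (fun G hG m => (isPseudoCoherentD_iff m _).1 (isPseudoCoherentD_lpull _ (hG m)))
      thickClass_locPC h U.2 hφ m

/-- The charts see perfect objects. -/
theorem locSP_immD_of_test (hK : DCoh.IsQCohD (DCoh.toD X K))
    (h : ∀ E : DCoh.D X, DCoh.IsPerfect E → DCoh.IsPerfect ((DCoh.Rpush π).obj ((DCoh.LTensorCx K).obj E)))
    {U : X.Opens} (hU : IsAffineOpen U) {hle : U ≤ π ⁻¹ᵁ ⊤} {n : ℕ}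
    {φ : MvPolynomial (Fin n) Γ(S, ⊤) →+* Γ(X, U)} (hφ : DerSch.IsChart π U ⊤ hle φ)
    [IsClEmb (imm U φ)] : LocSP ((immD U φ).obj (DCoh.toD X K)) :=
  prop_immD π K hK DCoh.IsPerfect LocSP (fun G hG => (isPerfect_iff _).1 (isPerfect_lpull _ hG))
    thickClass_locSP h hU hφ

end Groth.Agent.RelPC13.GenTest
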