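import Groth.Agent.RelPC13.PushTilde
import Groth.Agent.RelPC13.Closure
import Groth.Agent.RelPC13.Transfer
import Groth.Agent.H9Misc.FinDimDerived
import Groth.Agent.KFlatLib.Perfect.Corollaries
import Groth.Agent.KFlatLib.Scheme.EvalPerfect
import Groth.Agent.KRegLib.Perfect
import Groth.Agent.KRegLib.Pres
import Groth.Agent.S1105

/-! # Perfectness of the direct image of a section of an affine space -/

set_option linter.style.haveILetI false
set_option backward.isDefEq.respectTransparency false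
set_option backward.isDefEq.respectTransparency.types false

universe u

open CategoryTheory CategoryTheory.Limits AlgebraicGeometry TopologicalSpace Opposite
open Groth.Agent.KFlatLib

attribute [local instance] HasDerivedCategory.standard

noncomputable section

namespace Groth.Agent.RelPC13.GenTest

/-- Restriction along the identity. -/
def rhoId {U : Scheme.{u}} (G : DCoh.D U) : (rho (𝟙 U)).obj G ≅ G :=
  (rho (𝟙 U)).mapIso (repIso G).symm ≪≫ (rhoQ (𝟙 U)).app _ ≪≫
    DerivedCategory.Q.mapIso ((NatIso.mapHomologicalComplex (Scheme.Modules.restrictFunctorId (X := U))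
      (ComplexShape.up ℤ)).app _ ≪≫ (Functor.mapHomologicalComplexIdIso _ _).app _) ≪≫ repIso G

/-- Perfectness of a closed pushforward can be checked on an open containing the image. -/
theorem isPerfect_push_of_open {U V Z : Scheme.{u}} (c : U ⟶ Z) [IsClEmb c] (w : V ⟶ Z)
    [IsOpenImmersion w] (c' : U ⟶ V) [IsClEmb c'] (hc : c' ≫ w = c) (G : DCoh.D U)
    (h : DCoh.IsPerfect ((pD c').obj G)) : DCoh.IsPerfect ((pD c).obj G) := by
  refine (isPerfect_iff _).2 (LocSP.of_local fun z => ?_)
  by_cases hz : z ∈ Set.range w.base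
  · let W := w.opensRange
    let e : V ⟶ (W : Scheme.{u}) := (IsOpenImmersion.isoOfRangeEq w W.ι (by simp [W])).hom
    have he : e ≫ W.ι = w := IsOpenImmersion.isoOfRangeEq_hom_fac _ _ _
    have hrange : Set.range (𝟙 U : U ⟶ U).base = Set.range (c ⁻¹ᵁ W).ι.base := by
      rw [Scheme.Opens.range_ι]
      ext u
      refine ⟨fun _ => ?_, fun _ => ⟨u, rfl⟩⟩
      show c.base u ∈ Set.range w.base
      exact ⟨c'.base u, by rw [← Scheme.Hom.comp_apply, hc]⟩
    let s : U ⟶ (c ⁻¹ᵁ W : Scheme.{u}) := (IsOpenImmersion.isoOfRangeEq (𝟙 U) (c ⁻¹ᵁ W).ι hrange).hom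
    have hs : s ≫ (c ⁻¹ᵁ W).ι = 𝟙 U := IsOpenImmersion.isoOfRangeEq_hom_fac _ _ _
    haveI : IsIso e := inferInstance
    haveI : IsIso s := inferInstance
    haveI := isClEmb_comp c' e
    have hcs : s ≫ (c ∣_ W) = c' ≫ e := by
      rw [← cancel_mono W.ι, Category.assoc, morphismRestrict_ι, Category.assoc, he, hc,
        ← Category.assoc, hs, Category.id_comp]
    -- the pushforward on `W` is the pushforward from `V`
    let i₁ : (rho W.ι).obj ((pD c).obj G) ≅ (pD e).obj ((pD c').obj G) :=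
      pDRho c W G ≪≫ (pD (c ∣_ W)).mapIso (pDRhoIso s _).symm ≪≫
        pDComp s (c ∣_ W) (c' ≫ e) hcs _ ≪≫
        (pD (c' ≫ e)).mapIso (rhoComp s (c ⁻¹ᵁ W).ι (𝟙 U) hs G ≪≫ rhoId G) ≪≫
        (pDComp c' e (c' ≫ e) rfl G).symm
    let G'' := (pD c').obj G
    let H := (rho (inv e)).obj G''
    let j₀ : (rho e).obj H ≅ G'' := rhoComp e (inv e) (𝟙 V) (IsIso.hom_inv_id e) G'' ≪≫ rhoId G''
    let j₁ : (pD e).obj G'' ≅ H := (pD e).mapIso j₀.symm ≪≫ pDRhoIso e H
    let i₂ : (rho w).obj ((pD c).obj G) ≅ G'' :=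
      (rhoComp e W.ι w he _).symm ≪≫ (rho e).mapIso (i₁ ≪≫ j₁) ≪≫ j₀
    exact ⟨V, w, inferInstance, hz, LocSP.of_iso i₂.symm ((isPerfect_iff _).1 h)⟩
  · have hz' : z ∉ Set.range c.base := by
      rintro ⟨u, rfl⟩
      exact hz ⟨c'.base u, by rw [← Scheme.Hom.comp_apply, hc]⟩
    let W : Z.Opens := ⟨(Set.range c.base)ᶜ, (IsClEmb.emb (f := c)).isClosed_range.isOpen_compl⟩
    refine ⟨(W : Scheme.{u}), W.ι, inferInstance, ⟨⟨z, hz'⟩, rfl⟩, locSP_of_isZero ?_⟩
    refine IsZero.of_iso ?_ (pDRho c W G)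
    haveI : IsEmpty ↥(c ⁻¹ᵁ W : Scheme.{u}) := ⟨fun u => u.2 ⟨u.1, rfl⟩⟩
    let Z₀ := (rho (c ⁻¹ᵁ W).ι).obj G
    refine Functor.map_isZero _ (IsZero.of_iso ?_ (repIso Z₀).symm)
    exact (H9Misc.FinDimDerived.isZero_Q_obj_iff _).2 fun i => by
      rw [HomologicalComplex.exactAt_iff_isZero_homology]
      exact isZero_modules_of_isEmpty _

/-- A point of affine space over `Spec B` has perfect direct image. -/
theorem isPerfect_push_eval {B : Type u} [CommRing B] {n : ℕ} (a : Fin n → B)
    [IsClEmb (Spec.map (CommRingCat.ofHom (MvPolynomial.eval a)))] :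
    DCoh.IsPerfect ((pD (Spec.map (CommRingCat.ofHom (MvPolynomial.eval a)))).obj
      (DCoh.inD _ (Coh.structureModule (Spec (CommRingCat.of B))))) := by
  let P := MvPolynomial (Fin n) B
  let β : P →ₐ[B] B := MvPolynomial.aeval a
  have hβ : Function.Surjective β := fun b => ⟨MvPolynomial.C b, MvPolynomial.aeval_C _ _⟩
  let α : MvPolynomial (Fin 0) B →ₐ[B] B := MvPolynomial.aeval Fin.elim0
  have hα : Function.Surjective α := fun b => ⟨MvPolynomial.C b, MvPolynomial.aeval_C _ _⟩
  have hαb : RingHom.ker α.toRingHom = ⊥ := by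
    rw [RingHom.ker_eq_bot_iff_eq_zero]
    intro p hp
    rw [MvPolynomial.eq_C_of_isEmpty p] at hp ⊢
    simpa [α] using hp
  have h0 : LCI.IsKoszulRegularIdeal (RingHom.ker α.toRingHom) := fun 𝔭 _ =>
    ⟨1, fun h => 𝔭.2.ne_top ((Ideal.eq_top_iff_one _).2 h), [], fun i hi =>
      (HomologicalComplex.isZero_single_obj_homology (ComplexShape.up ℤ) 0
        (ModuleCat.of (Localization.Away (1 : MvPolynomial (Fin 0) B))
          (Localization.Away (1 : MvPolynomial (Fin 0) B))) i hi), by
      rw [hαb, Ideal.map_bot]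
      simp⟩
  have hperf : DRing.IsPerfectModule P (P ⧸ RingHom.ker β.toRingHom) :=
    KRegLib.isPerfectModule_quotient _ (KRegLib.isKoszulRegularIdeal_ker_transfer α hα β hβ h0)
  let φ : CommRingCat.of P ⟶ CommRingCat.of B := CommRingCat.ofHom (MvPolynomial.eval a)
  haveI : PreservesFiniteLimits (tilde.functor (CommRingCat.of P)) := QCoh.tilde_preservesFiniteLimits
  haveI : PreservesFiniteColimits (tilde.functor (CommRingCat.of P)) := QCoh.tilde_preservesFiniteColimits
  haveI : PreservesBinaryBiproducts (tilde.functor (CommRingCat.of P)) :=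
    preservesBinaryBiproducts_of_preservesBinaryCoproducts _
  haveI : (tilde.functor (CommRingCat.of P)).Additive := Functor.additive_of_preservesBinaryBiproducts _
  let M : ModuleCat.{u} P := (ModuleCat.restrictScalars φ.hom).obj (ModuleCat.of B B)
  letI : Algebra P B := (MvPolynomial.eval a).toAlgebra
  have hM : DRing.IsPerfect P (Dual.inD P M) := by
    have hker : RingHom.ker β.toRingHom = RingHom.ker (Algebra.ofId P B) := rfl
    exact KRegLib.isPerfectModule_congr (N := M) (M := P ⧸ RingHom.ker β.toRingHom)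
      (((Ideal.quotientEquivAlgOfEq P hker).trans
        (Ideal.quotientKerAlgEquivOfSurjective (f := Algebra.ofId P B) hβ)).toLinearEquiv.trans
        { toFun := fun b => b, invFun := fun b => b, map_add' := fun _ _ => rfl,
          map_smul' := fun _ _ => rfl, left_inv := fun _ => rfl, right_inv := fun _ => rfl }) hperf
  refine (isPerfect_iff _).2 (LocSP.of_iso ?_ ((isPerfect_iff _).1 ((S1105.result P _).2 hM)))
  exact ((tilde.functor (CommRingCat.of P)).mapDerivedCategorySingleFunctor 0).app M ≪≫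
    (DerivedCategory.singleFunctor _ 0).mapIso
      (((pushTildeIso φ).app (ModuleCat.of B B)).symm ≪≫
        (Scheme.Modules.pushforward (Spec.map φ)).mapIso tildeSelf) ≪≫ (pDSingle (Spec.map φ) _).symm

end Groth.Agent.RelPC13.GenTest
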